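import Groth.Prelude.Def_AlgGrp
import Groth.Prelude.Def_W4bk4git07Quot
import Groth.Agent.E4O.ValuationLift
import Groth.Agent.E4O.BaseChangeDim
import Groth.Agent.Fam20.ChevalleyOpenMap
import Groth.Agent.Open62.FiniteTest
import Mathlib.AlgebraicGeometry.Morphisms.UniversallyOpen

/-!
An invariant dominant morphism whose geometric fibres are single orbits is universally open over a normal target
(Chevalley's criterion).
-/

set_option autoImplicit false
set_option linter.style.haveILetI false

universe u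

open CategoryTheory CategoryTheory.Limits MonoidalCategory CartesianMonoidalCategory MonObj AlgebraicGeometry

namespace Groth.Agent.GIT36.OneOrbit

/-- A morphism is universally open if it is so after composition with a surjection. -/
theorem universallyOpen_of_surjective_comp {A B C : Scheme.{u}} (e : A ⟶ B) (h : B ⟶ C) [Surjective e]
    [UniversallyOpen (e ≫ h)] : UniversallyOpen h := by
  rw [universallyOpen_iff]
  intro X' Y' i₁ i₂ f' hsq U hU
  let q : pullback e i₁ ⟶ X' := pullback.snd e i₁
  haveI : Surjective q := MorphismProperty.pullback_snd e i₁ inferInstance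
  have hbig : IsPullback (pullback.fst e i₁) (q ≫ f') (e ≫ h) i₂ :=
    (IsPullback.of_hasPullback e i₁).paste_vert hsq.flip
  haveI : UniversallyOpen (q ≫ f') := MorphismProperty.of_isPullback hbig inferInstance
  have heq : f' '' U = (q ≫ f') '' (q ⁻¹' U) := by
    ext y
    constructor
    · rintro ⟨x, hx, rfl⟩
      obtain ⟨w, rfl⟩ := q.surjective x
      exact ⟨w, hx, Scheme.Hom.comp_apply _ _ _⟩
    · rintro ⟨w, hw, rfl⟩
      exact ⟨q w, hw, (Scheme.Hom.comp_apply _ _ _).symm⟩
  rw [heq]
  exact (q ≫ f').isOpenMap _ (hU.preimage q.continuous)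

/-- Stalks of a normal scheme given by affine opens are integrally closed. -/
theorem isIntegrallyClosed_stalk {Y : Scheme.{u}} [IsIntegral Y]
    (hY : ∀ U : Y.affineOpens, IsIntegrallyClosed Γ(Y, U)) (y : Y) : IsIntegrallyClosed (Y.presheaf.stalk y) := by
  obtain ⟨U, hU, hyU, -⟩ := exists_isAffineOpen_mem_and_subset (X := Y) (x := y) (U := ⊤) trivial
  haveI : Nonempty U := ⟨⟨y, hyU⟩⟩
  haveI : IsDomain Γ(Y, U) := inferInstance
  haveI : IsIntegrallyClosed Γ(Y, U) := hY ⟨U, hU⟩
  let := TopCat.Presheaf.algebra_section_stalk Y.presheaf ⟨y, hyU⟩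
  have := hU.isLocalization_stalk ⟨y, hyU⟩
  exact isIntegrallyClosed_of_isLocalization (Y.presheaf.stalk y)
    (hU.primeIdealOf ⟨y, hyU⟩).asIdeal.primeCompl (Ideal.primeCompl_le_nonZeroDivisors _)

variable {S : Scheme.{u}} {G X Y : Over S} [GrpObj G]

/-- One orbit in each geometric fibre makes `(σ, p₂) : G × X ⟶ X ×_Y X` surjective. -/
theorem surjective_PsiY (a : AlgGrp.Action G X) (φ : X ⟶ Y) (hi : GIT.IsInvariant a φ)
    (hii : ∀ (Ω : Type u) [Field Ω] [IsAlgClosed Ω] (T : Over S) (_ : T.left ≅ Spec (CommRingCat.of Ω))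
      (x₁ x₂ : T ⟶ X), x₁ ≫ φ = x₂ ≫ φ → ∃ g : T ⟶ G, lift g x₂ ≫ a.act = x₁) :
    Function.Surjective (GIT.PsiY a φ hi).base := by
  intro z
  let P := pullback φ.left φ.left
  let Ω := AlgebraicClosure (P.residueField z)
  let pt : Spec (CommRingCat.of Ω) ⟶ P :=
    Spec.map (CommRingCat.ofHom (algebraMap (P.residueField z) Ω)) ≫ P.fromSpecResidueField z
  let p : Spec (CommRingCat.of Ω) ⟶ X.left := pt ≫ pullback.fst φ.left φ.left
  let q : Spec (CommRingCat.of Ω) ⟶ X.left := pt ≫ pullback.snd φ.left φ.left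
  have hpq : p ≫ φ.left = q ≫ φ.left := by simp only [p, q, Category.assoc, pullback.condition]
  let T : Over S := Over.mk (p ≫ X.hom)
  have hq : q ≫ X.hom = p ≫ X.hom := by rw [← Over.w φ, ← Category.assoc, ← hpq, Category.assoc]
  let x₁ : T ⟶ X := Over.homMk p rfl
  let x₂ : T ⟶ X := Over.homMk q hq
  obtain ⟨g, hg⟩ := hii Ω T (Iso.refl _) x₁ x₂ (Over.OverMorphism.ext hpq)
  refine ⟨(lift g x₂).left (IsLocalRing.closedPoint Ω), ?_⟩
  have h1 : (lift g x₂).left ≫ GIT.PsiY a φ hi = pt := by
    apply pullback.hom_ext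
    · rw [Category.assoc, GIT.PsiY, pullback.lift_fst, ← Over.comp_left, hg]
      rfl
    · rw [Category.assoc, GIT.PsiY, pullback.lift_snd, ← Over.comp_left, lift_snd]
      rfl
  have h2 := congrArg (fun m => m (IsLocalRing.closedPoint Ω)) h1
  simp only [Scheme.Hom.comp_apply] at h2
  rw [h2]
  show (P.fromSpecResidueField z) ((Spec.map (CommRingCat.ofHom (algebraMap (P.residueField z) Ω)))
    (IsLocalRing.closedPoint Ω)) = z
  exact Scheme.fromSpecResidueField_apply z _

/-- Chevalley's criterion applied to a morphism with one orbit in each fibre. -/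
theorem universallyOpen_of_surjective_PsiY (a : AlgGrp.Action G X) (φ : X ⟶ Y) [UniversallyOpen G.hom]
    [IsIntegral X.left] [IsIntegral Y.left] [IsNoetherian Y.left] [LocallyOfFiniteType φ.left] [IsDominant φ.left]
    (hY : ∀ U : Y.left.affineOpens, IsIntegrallyClosed Γ(Y.left, U))
    (hi : GIT.IsInvariant a φ) (hs : Function.Surjective (GIT.PsiY a φ hi).base) :
    UniversallyOpen φ.left := by
  let pr₁ := pullback.fst φ.left φ.left
  let pr₂ := pullback.snd φ.left φ.left
  haveI : Surjective (GIT.PsiY a φ hi) := ⟨hs⟩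
  haveI : UniversallyOpen (snd G X).left := inferInstanceAs (UniversallyOpen (pullback.snd G.hom X.hom))
  haveI : UniversallyOpen (GIT.PsiY a φ hi ≫ pr₂) := by
    rw [GIT.PsiY, pullback.lift_snd]; infer_instance
  haveI : UniversallyOpen pr₂ := universallyOpen_of_surjective_comp (GIT.PsiY a φ hi) pr₂
  have hη : φ.left (genericPoint X.left) = genericPoint Y.left :=
    ((((genericPoint_spec X.left).image φ.left.continuous).eq (by
      rw [Set.image_univ]
      convert genericPoint_spec Y.left
      exact φ.left.denseRange.closure_range)))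
  refine Fam20.universallyOpen_of_geomUnibranch φ.left (fun y => ?_) ?_ fun x => ⟨genericPoint X.left, ?_, ?_, ?_⟩
  · haveI := isIntegrallyClosed_stalk hY y
    exact Open62.FiniteTest.isGeomUnibranch_of_isIntegrallyClosed _
  · exact TopologicalSpace.NoetherianSpace.finite_irreducibleComponents
  · exact genericPoint_specializes x
  · rw [hη, irreducibleComponents_eq_singleton, Set.mem_singleton_iff]
    exact (genericPoint_spec Y.left).def
  intro z _ _ _
  obtain ⟨w, hw₁, -, hw₃⟩ := E4O.exists_fdeg_eq_of_isPullback (IsPullback.of_hasPullback φ.left φ.left) z z rfl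
  have hopen : EGA43.IsUnivOpenAt pr₂ w := fun Y' g x' _ =>
    E4O.isOpenAt_of_isOpenMap (pullback.snd pr₂ g).isOpenMap x'
  obtain ⟨ξ, hξ₁, -, hξ₂⟩ := E4O.exists_fdeg_ge_of_isUnivOpenAt pr₂ hopen
    (y' := genericPoint X.left) (genericPoint_specializes _)
  have h1 : E4O.fdeg φ.left z ≤ E4O.fdeg φ.left (pr₁ ξ) := hw₃ ▸
    hξ₂.trans (E4O.fdeg_le_of_isPullback (IsPullback.of_hasPullback φ.left φ.left) ξ)
  refine h1.trans (E4O.fdeg_le (genericPoint_specializes _) ?_)
  have h2 := congrArg (fun m => m ξ) (pullback.condition (f := φ.left) (g := φ.left))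
  simp only [Scheme.Hom.comp_apply] at h2
  exact (h2.trans (congrArg φ.left hξ₁)).symm

end Groth.Agent.GIT36.OneOrbit
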