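import Groth.Agent.GIT36.OneOrbit.Open
import Groth.Agent.FBase64.TensorField
import Groth.Agent.CAlg4.ReducedCurve
import Groth.Agent.H98EqInt.Normal
import Groth.Agent.CohFF96.Basic

/-!
In characteristic zero an invariant function on the preimage of an open of a normal scheme comes from that open when
every geometric fibre is one orbit.
-/

set_option autoImplicit false
set_option linter.style.haveILetI false

universe u

open CategoryTheory CategoryTheory.Limits MonoidalCategory CartesianMonoidalCategory MonObj AlgebraicGeometry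
  TopologicalSpace
open scoped TensorProduct

namespace Groth.Agent.GIT36.OneOrbit

/-- In characteristic zero an element outside the ground field is moved by two embeddings into an algebraically closed
field. -/
theorem exists_two_homs {K L : Type u} [Field K] [CharZero K] [Field L] [Algebra K L] (g : L)
    (hg : g ∉ (algebraMap K L).range) :
    ∃ (Ω : Type u) (_ : Field Ω) (_ : IsAlgClosed Ω) (σ₁ σ₂ : L →+* Ω),
      σ₁.comp (algebraMap K L) = σ₂.comp (algebraMap K L) ∧ σ₁ g ≠ σ₂ g := by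
  haveI : PerfectField K := inferInstance
  haveI : _root_.IsReduced (L ⊗[K] L) := FBase64.isReduced_tensor_of_perfectField K L L
  let d : L ⊗[K] L := g ⊗ₜ[K] (1 : L) - (1 : L) ⊗ₜ[K] g
  have hd : d ≠ 0 := by
    intro h
    obtain ⟨ψ, hψ⟩ := (Submodule.span K {(1 : L)}).exists_dual_map_eq_bot_of_notMem (x := g) (fun hm => hg (by
      obtain ⟨c, hc⟩ := Submodule.mem_span_singleton.1 hm
      exact ⟨c, by rw [← hc, Algebra.smul_def, _root_.mul_one]⟩)) inferInstance
    have h1 : ψ 1 = 0 := by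
      have : ψ 1 ∈ (Submodule.span K {(1 : L)}).map ψ :=
        Submodule.mem_map_of_mem (Submodule.mem_span_singleton_self _)
      rw [hψ.2] at this
      exact (Submodule.mem_bot K).1 this
    have h2 := congrArg ((TensorProduct.rid K L).toLinearMap.comp (LinearMap.lTensor L ψ)) (sub_eq_zero.1 h)
    simp only [LinearMap.comp_apply, LinearMap.lTensor_tmul, LinearEquiv.coe_coe, TensorProduct.rid_tmul, h1,
      zero_smul] at h2
    rw [Algebra.smul_def, _root_.mul_one] at h2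
    exact hψ.1 ((algebraMap K L).injective (by rw [map_zero]; exact h2.symm))
  have hnil : d ∉ nilradical (L ⊗[K] L) := fun h => hd (IsNilpotent.eq_zero h)
  rw [nilradical_eq_sInf, Submodule.mem_sInf] at hnil
  push Not at hnil
  obtain ⟨P, hP, hPd⟩ := hnil
  haveI : Ideal.IsPrime P := hP
  let ev : L ⊗[K] L →+* AlgebraicClosure (FractionRing ((L ⊗[K] L) ⧸ P)) :=
    ((algebraMap (FractionRing ((L ⊗[K] L) ⧸ P)) _).comp
      (algebraMap ((L ⊗[K] L) ⧸ P) (FractionRing ((L ⊗[K] L) ⧸ P)))).comp (Ideal.Quotient.mk P)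
  have hker : ∀ x, ev x = 0 → x ∈ P := fun x hx => Ideal.Quotient.eq_zero_iff_mem.1
    (IsFractionRing.injective ((L ⊗[K] L) ⧸ P) (FractionRing ((L ⊗[K] L) ⧸ P))
      (by rw [map_zero]; exact (algebraMap (FractionRing ((L ⊗[K] L) ⧸ P)) (AlgebraicClosure (FractionRing ((L ⊗[K] L) ⧸ P)))).injective (by rw [map_zero]; exact hx)))
  refine ⟨_, inferInstance, inferInstance, ev.comp Algebra.TensorProduct.includeLeftRingHom,
    ev.comp (Algebra.TensorProduct.includeRight : L →ₐ[K] L ⊗[K] L).toRingHom, RingHom.ext fun c => ?_, fun h => ?_⟩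
  · show ev (algebraMap K L c ⊗ₜ[K] (1 : L)) = ev ((1 : L) ⊗ₜ[K] algebraMap K L c)
    rw [Algebra.algebraMap_eq_smul_one, TensorProduct.smul_tmul]
  · refine hPd (hker d ?_)
    rw [map_sub, sub_eq_zero]
    exact h

variable {S : Scheme.{u}} {G X Y : Over S} [GrpObj G]

theorem fromSpec_appLE_top {Z : Scheme.{u}} {W : Z.Opens} (hW : IsAffineOpen W) {O : Z.Opens} (hWO : W ≤ O)
    (e : ⊤ ≤ hW.fromSpec ⁻¹ᵁ O) (f : Γ(Z, O)) :
    hW.fromSpec.appLE O ⊤ e f = (Scheme.ΓSpecIso Γ(Z, W)).inv (Z.presheaf.map (homOfLE hWO).op f) := by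
  have h2 : hW.fromSpec.appLE W ⊤ hW.fromSpec_preimage_self.ge = (Scheme.ΓSpecIso Γ(Z, W)).inv := by
    rw [Scheme.Hom.appLE, hW.fromSpec_app_self, Category.assoc, ← Functor.map_comp]
    exact Category.comp_id _
  rw [← h2, ← CommRingCat.comp_apply, Scheme.Hom.map_appLE]

/-- Two field-valued points of a chart lying over the same point of the quotient give the same value to an invariant
function. -/
theorem eq_of_invariant (a : AlgGrp.Action G X) (φ : X ⟶ Y)
    (hii : ∀ (Ω : Type u) [Field Ω] [IsAlgClosed Ω] (T : Over S) (_ : T.left ≅ Spec (CommRingCat.of Ω))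
      (x₁ x₂ : T ⟶ X), x₁ ≫ φ = x₂ ≫ φ → ∃ g : T ⟶ G, lift g x₂ ≫ a.act = x₁)
    {U : Y.left.Opens} {f : Γ(X.left, φ.left ⁻¹ᵁ U)} (hf : GIT.IsInvSection a φ U f)
    {W : X.left.Opens} (hW : IsAffineOpen W) (hWU : W ≤ φ.left ⁻¹ᵁ U)
    {V : Y.left.Opens} (hV : IsAffineOpen V) (hWV : W ≤ φ.left ⁻¹ᵁ V)
    {Ω : Type u} [Field Ω] [IsAlgClosed Ω] (τ₁ τ₂ : Γ(X.left, W) →+* Ω)
    (hτ : τ₁.comp (φ.left.appLE V W hWV).hom = τ₂.comp (φ.left.appLE V W hWV).hom) :
    τ₁ (X.left.presheaf.map (homOfLE hWU).op f) = τ₂ (X.left.presheaf.map (homOfLE hWU).op f) := by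
  let p (τ : Γ(X.left, W) →+* Ω) : Spec (CommRingCat.of Ω) ⟶ X.left :=
    Spec.map (CommRingCat.ofHom τ) ≫ hW.fromSpec
  have hp : ∀ τ : Γ(X.left, W) →+* Ω,
      p τ ≫ φ.left = Spec.map (CommRingCat.ofHom (τ.comp (φ.left.appLE V W hWV).hom)) ≫ hV.fromSpec := by
    intro τ
    show (Spec.map (CommRingCat.ofHom τ) ≫ hW.fromSpec) ≫ φ.left = _
    rw [Category.assoc, ← IsAffineOpen.SpecMap_appLE_fromSpec φ.left hV hW hWV, ← Category.assoc, ← Spec.map_comp]
    rfl
  have hpq : p τ₁ ≫ φ.left = p τ₂ ≫ φ.left := by rw [hp, hp, hτ]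
  let T : Over S := Over.mk (p τ₁ ≫ X.hom)
  have hq : p τ₂ ≫ X.hom = p τ₁ ≫ X.hom := by rw [← Over.w φ, ← Category.assoc, ← hpq, Category.assoc]
  let x₁ : T ⟶ X := Over.homMk (p τ₁) rfl
  let x₂ : T ⟶ X := Over.homMk (p τ₂) hq
  obtain ⟨g, hg⟩ := hii Ω T (Iso.refl _) x₁ x₂ (Over.OverMorphism.ext hpq)
  have hmem : ∀ τ : Γ(X.left, W) →+* Ω, (⊤ : (Spec (CommRingCat.of Ω)).Opens) ≤ p τ ⁻¹ᵁ (φ.left ⁻¹ᵁ U) :=
    fun τ y _ => hWU (by
      show hW.fromSpec (Spec.map (CommRingCat.ofHom τ) y) ∈ W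
      exact hW.range_fromSpec.le ⟨_, rfl⟩)
  let O := a.act.left ⁻¹ᵁ (φ.left ⁻¹ᵁ U) ⊓ (snd G X).left ⁻¹ᵁ (φ.left ⁻¹ᵁ U)
  have h1 : (lift g x₂).left ≫ a.act.left = p τ₁ := by rw [← Over.comp_left, hg]; rfl
  have h2 : (lift g x₂).left ≫ (snd G X).left = p τ₂ := by rw [← Over.comp_left, lift_snd]; rfl
  have hle : (⊤ : T.left.Opens) ≤ (lift g x₂).left ⁻¹ᵁ O := by
    show (⊤ : T.left.Opens) ≤ (lift g x₂).left ⁻¹ᵁ (a.act.left ⁻¹ᵁ (φ.left ⁻¹ᵁ U)) ⊓
      (lift g x₂).left ⁻¹ᵁ ((snd G X).left ⁻¹ᵁ (φ.left ⁻¹ᵁ U))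
    refine le_inf ?_ ?_
    · rw [← Scheme.Hom.comp_preimage, h1]; exact hmem τ₁
    · rw [← Scheme.Hom.comp_preimage, h2]; exact hmem τ₂
  have h3 := congrArg ((lift g x₂).left.appLE O ⊤ hle) hf
  rw [← CommRingCat.comp_apply, ← CommRingCat.comp_apply, Scheme.Hom.appLE_comp_appLE,
    Scheme.Hom.appLE_comp_appLE] at h3
  have key : ∀ (τ : Γ(X.left, W) →+* Ω) (q : T.left ⟶ X.left) (e : ⊤ ≤ q ⁻¹ᵁ (φ.left ⁻¹ᵁ U)), q = p τ →
      q.appLE (φ.left ⁻¹ᵁ U) ⊤ e f =
        (Scheme.ΓSpecIso (CommRingCat.of Ω)).inv (τ (X.left.presheaf.map (homOfLE hWU).op f)) := by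
    rintro τ q e rfl
    have e' : ⊤ ≤ hW.fromSpec ⁻¹ᵁ (φ.left ⁻¹ᵁ U) := fun y _ => hWU (hW.range_fromSpec.le ⟨y, rfl⟩)
    show (Spec.map (CommRingCat.ofHom τ) ≫ hW.fromSpec).appLE _ ⊤ e f = _
    rw [← Scheme.Hom.appLE_comp_appLE (Spec.map (CommRingCat.ofHom τ)) hW.fromSpec _ ⊤ ⊤ e' le_top,
      CommRingCat.comp_apply, fromSpec_appLE_top hW hWU]
    have h4 := congrArg (fun m => m (X.left.presheaf.map (homOfLE hWU).op f))
      (Scheme.ΓSpecIso_inv_naturality (CommRingCat.ofHom τ))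
    simp only [CommRingCat.comp_apply] at h4
    rw [Scheme.Hom.appTop, Scheme.Hom.app_eq_appLE] at h4
    exact h4.symm
  rw [key τ₁ _ _ h1, key τ₂ _ _ h2] at h3
  exact (Scheme.ΓSpecIso (CommRingCat.of Ω)).symm.commRingCatIsoToRingEquiv.injective h3

/-- Invariant functions come from the target. -/
theorem exists_app_eq (a : AlgGrp.Action G X) (φ : X ⟶ Y) [IsIntegral X.left] [IsIntegral Y.left]
    [IsLocallyNoetherian Y.left] [CharZero Y.left.functionField]
    (hY : ∀ U : Y.left.affineOpens, IsIntegrallyClosed Γ(Y.left, U)) (hs : Function.Surjective φ.left.base)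
    (hii : ∀ (Ω : Type u) [Field Ω] [IsAlgClosed Ω] (T : Over S) (_ : T.left ≅ Spec (CommRingCat.of Ω))
      (x₁ x₂ : T ⟶ X), x₁ ≫ φ = x₂ ≫ φ → ∃ g : T ⟶ G, lift g x₂ ≫ a.act = x₁)
    {U : Y.left.Opens} {f : Γ(X.left, φ.left ⁻¹ᵁ U)} (hf : GIT.IsInvSection a φ U f) :
    ∃ c : Γ(Y.left, U), φ.left.app U c = f := by
  by_cases hUne : Nonempty U
  swap
  · refine ⟨0, TopCat.Presheaf.section_ext X.left.sheaf _ _ _ fun y hy => absurd ⟨⟨φ.left y, hy⟩⟩ hUne⟩
  obtain ⟨⟨y₀, hy₀⟩⟩ := hUne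
  haveI : Nonempty U := ⟨⟨y₀, hy₀⟩⟩
  have hinj : ∀ V : Y.left.Opens, Function.Injective (φ.left.app V) := by
    intro V
    rw [injective_iff_map_eq_zero]
    intro c hc
    by_contra hne
    obtain ⟨⟨y, hy⟩⟩ : Nonempty (Y.left.basicOpen c) := by
      by_contra hE
      refine hne ((basicOpen_eq_bot_iff c).1 (eq_bot_iff.2 fun y hy => absurd ⟨⟨y, hy⟩⟩ hE))
    obtain ⟨x, rfl⟩ := hs y
    have : x ∈ X.left.basicOpen (φ.left.app V c) := by rw [← Scheme.preimage_basicOpen]; exact hy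
    rw [hc, Scheme.basicOpen_zero] at this
    exact this
  -- the candidate in the function field
  obtain ⟨_, ⟨V₀, hV₀, rfl⟩, hyV₀, hV₀U⟩ :=
    Y.left.isBasis_affineOpens.exists_subset_of_mem_open hy₀ U.isOpen
  replace hV₀ : IsAffineOpen V₀ := hV₀
  haveI : Nonempty V₀ := ⟨⟨y₀, hyV₀⟩⟩
  obtain ⟨x₀, hx₀⟩ := hs y₀
  obtain ⟨_, ⟨W, hW, rfl⟩, hxW, hWV⟩ :=
    X.left.isBasis_affineOpens.exists_subset_of_mem_open (show x₀ ∈ φ.left ⁻¹ᵁ V₀ by show φ.left x₀ ∈ V₀; rw [hx₀]; exact hyV₀)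
      (φ.left ⁻¹ᵁ V₀).isOpen
  replace hW : IsAffineOpen W := hW
  replace hWV : W ≤ φ.left ⁻¹ᵁ V₀ := hWV
  haveI : Nonempty W := ⟨⟨x₀, hxW⟩⟩
  haveI : Nonempty (φ.left ⁻¹ᵁ V₀) := ⟨⟨x₀, hWV hxW⟩⟩
  have hWU : W ≤ φ.left ⁻¹ᵁ U := hWV.trans (φ.left.preimage_mono hV₀U)
  let ιR := (φ.left.appLE V₀ W hWV).hom
  have hι : Function.Injective ιR := by
    show Function.Injective ((φ.left.app V₀ ≫ X.left.presheaf.map (homOfLE hWV).op).hom)
    exact (map_injective_of_isIntegral X.left (homOfLE hWV)).comp (hinj V₀)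
  let g := X.left.presheaf.map (homOfLE hWU).op f
  obtain ⟨n, m, hm, hnm⟩ : ∃ n m : Γ(Y.left, V₀), m ≠ 0 ∧ ιR n = ιR m * g := by
    let K := FractionRing Γ(Y.left, V₀)
    let L := FractionRing Γ(X.left, W)
    letI : Algebra K L := (IsFractionRing.map hι : K →+* L).toAlgebra
    haveI : CharZero K := by
      haveI := functionField_isFractionRing_of_isAffineOpen Y.left V₀ hV₀
      let e : Y.left.functionField ≃ₐ[Γ(Y.left, V₀)] K := IsLocalization.algEquiv (nonZeroDivisors Γ(Y.left, V₀)) _ _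
      exact charZero_of_injective_ringHom (f := e.toRingEquiv.toRingHom) e.injective
    have hKL : ∀ r : Γ(Y.left, V₀), algebraMap K L (algebraMap _ K r) = algebraMap _ L (ιR r) := fun r => by
      show IsFractionRing.map hι (algebraMap _ K r) = _
      simp [IsFractionRing.map]
    by_cases hgK : algebraMap _ L g ∈ (algebraMap K L).range
    · obtain ⟨c, hc⟩ := hgK
      obtain ⟨n, m, hm, rfl⟩ := IsFractionRing.div_surjective (A := Γ(Y.left, V₀)) c
      have hm0 : m ≠ 0 := nonZeroDivisors.ne_zero hm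
      refine ⟨n, m, hm0, IsFractionRing.injective Γ(X.left, W) L ?_⟩
      rw [map_div₀, hKL, hKL, div_eq_iff ((map_ne_zero_iff _ (IsFractionRing.injective _ L)).2
        ((map_ne_zero_iff _ hι).2 hm0))] at hc
      rw [hc, map_mul, mul_comm]
    · obtain ⟨Ω, _, _, σ₁, σ₂, hσ, hne⟩ := exists_two_homs _ hgK
      refine absurd (eq_of_invariant a φ hii hf hW hWU hV₀ hWV (σ₁.comp (algebraMap _ L)) (σ₂.comp (algebraMap _ L))
        (RingHom.ext fun r => ?_)) hne
      show σ₁ (algebraMap _ L (ιR r)) = σ₂ (algebraMap _ L (ιR r))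
      rw [← hKL]
      exact RingHom.congr_fun hσ _
  let c₀ : Y.left.functionField := (Y.left.germToFunctionField V₀).hom n / (Y.left.germToFunctionField V₀).hom m
  have hηV : ∀ (O : Y.left.Opens) [Nonempty O], genericPoint Y.left ∈ O := fun O hO =>
    ((genericPoint_spec Y.left).mem_open_set_iff O.isOpen).2 (by simpa using hO.some.2 |> fun h => ⟨_, h⟩)
  have hξ : ∀ (O : X.left.Opens) [Nonempty O], genericPoint X.left ∈ O := fun O hO =>
    ((genericPoint_spec X.left).mem_open_set_iff O.isOpen).2 (by simpa using hO.some.2 |> fun h => ⟨_, h⟩)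
  haveI : IsDominant φ.left := ⟨hs.denseRange⟩
  have hη : φ.left (genericPoint X.left) = genericPoint Y.left :=
    (((genericPoint_spec X.left).image φ.left.continuous).eq (by
      rw [Set.image_univ]
      convert genericPoint_spec Y.left
      exact φ.left.denseRange.closure_range))
  -- the induced map of function fields
  let Φ : Y.left.functionField →+* X.left.functionField :=
    (Y.left.presheaf.stalkSpecializes (Specializes.of_eq hη) ≫ φ.left.stalkMap (genericPoint X.left)).hom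
  have hΦ : ∀ (O : Y.left.Opens) [Nonempty O] (s : Γ(Y.left, O)), Φ ((Y.left.germToFunctionField O).hom s) =
      X.left.presheaf.germ (φ.left ⁻¹ᵁ O) (genericPoint X.left)
        (show φ.left (genericPoint X.left) ∈ O by rw [hη]; exact hηV O) (φ.left.app O s) := by
    intro O _ s
    show φ.left.stalkMap _ (Y.left.presheaf.stalkSpecializes _ (Y.left.presheaf.germ O _ _ s)) = _
    rw [TopCat.Presheaf.germ_stalkSpecializes_apply, Scheme.Hom.germ_stalkMap_apply]
  have hξU : genericPoint X.left ∈ φ.left ⁻¹ᵁ U := by show φ.left _ ∈ U; rw [hη]; exact hηV U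
  have hfc : Φ c₀ = X.left.presheaf.germ _ _ hξU f := by
    have e0 : ∀ r : Γ(Y.left, V₀), Φ ((Y.left.germToFunctionField V₀).hom r) =
        X.left.presheaf.germ W _ (hξ W) (ιR r) := fun r => by
      rw [hΦ]
      exact (X.left.presheaf.germ_res_apply (homOfLE hWV) _ (hξ W) _).symm
    have hg : X.left.presheaf.germ W _ (hξ W) g = X.left.presheaf.germ _ _ hξU f :=
      X.left.presheaf.germ_res_apply (homOfLE hWU) _ (hξ W) f
    have hm' : X.left.presheaf.germ W _ (hξ W) (ιR m) ≠ 0 := fun h => hm (hι (by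
      rw [map_zero]; exact germ_injective_of_isIntegral X.left _ (hξ W) (h.trans (map_zero _).symm)))
    rw [map_div₀, e0, e0, hnm, map_mul, mul_div_cancel_left₀ _ hm', hg]
  have hc₀ : c₀ ∈ (Y.left.germToFunctionField U).hom.range := by
    refine CohFF96.mem_range_of_affines U c₀ fun V hV hVU _ => ?_
    haveI : IsIntegrallyClosed Γ(Y.left, V) := hY ⟨V, hV⟩
    haveI : IsNoetherianRing Γ(Y.left, V) := IsLocallyNoetherian.component_noetherian ⟨V, hV⟩
    haveI := functionField_isFractionRing_of_isAffineOpen Y.left V hV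
    obtain ⟨b, d, hd, hbd⟩ := IsFractionRing.div_surjective (A := Γ(Y.left, V)) c₀
    have hd0 : d ≠ 0 := nonZeroDivisors.ne_zero hd
    let f' := X.left.presheaf.map (homOfLE (φ.left.preimage_mono hVU)).op f
    have hξV : genericPoint X.left ∈ φ.left ⁻¹ᵁ V := by show φ.left _ ∈ V; rw [hη]; exact hηV V
    have hbdf : φ.left.app V b = φ.left.app V d * f' := by
      refine germ_injective_of_isIntegral X.left _ hξV ?_
      rw [map_mul, show X.left.presheaf.germ _ _ hξV f' = _ from X.left.presheaf.germ_res_apply _ _ hξV f, ← hfc, ← hbd,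
        map_div₀]
      have hd' : Φ ((Y.left.germToFunctionField V).hom d) ≠ 0 :=
        (map_ne_zero Φ).2 ((map_ne_zero_iff _ (Y.left.germToFunctionField_injective V)).2 hd0)
      rw [← hΦ, ← hΦ]
      exact (mul_div_cancel₀ _ hd').symm
    obtain ⟨e, he⟩ : d ∣ b := by
      refine CAlg4.ReducedCurve.dvd_of_forall_height_one d b hd0 fun q _ hq _ => ?_
      haveI := CAlg4.ReducedCurve.dvr_of_height_one q hq
      let A := Localization.AtPrime q
      rcases ValuationRing.dvd_total (algebraMap _ A d) (algebraMap _ A b) with h | ⟨t, ht⟩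
      · exact h
      by_cases htu : IsUnit t
      · exact ⟨↑htu.unit⁻¹, by rw [ht, _root_.mul_assoc, IsUnit.mul_val_inv, _root_.mul_one]⟩
      exfalso
      obtain ⟨r, s, rfl⟩ := IsLocalization.exists_mk'_eq q.primeCompl t
      have hds : d * (s : Γ(Y.left, V)) = b * r :=
        IsLocalization.injective A q.primeCompl_le_nonZeroDivisors (by
          rw [map_mul, ht, _root_.mul_assoc, IsLocalization.mk'_spec, map_mul])
      have hrq : r ∈ q := by
        by_contra hr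
        exact htu ((IsLocalization.AtPrime.isUnit_mk'_iff A q r s).2 hr)
      obtain ⟨x, hx⟩ := hs (hV.fromSpec ⟨q, ‹_›⟩)
      have hxV : φ.left x ∈ V := hx ▸ hV.range_fromSpec.le ⟨_, rfl⟩
      haveI : Nonempty (φ.left ⁻¹ᵁ V) := ⟨⟨x, hxV⟩⟩
      have hrs : φ.left.app V (s : Γ(Y.left, V)) = f' * φ.left.app V r := by
        refine mul_left_cancel₀ ((map_ne_zero_iff _ (hinj V)).2 hd0) ?_
        rw [← map_mul, hds, map_mul, hbdf, _root_.mul_assoc]
      have h1 : x ∈ X.left.basicOpen (φ.left.app V (s : Γ(Y.left, V))) := by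
        rw [← Scheme.preimage_basicOpen]
        show φ.left x ∈ Y.left.basicOpen _
        rw [hx]
        show (⟨q, ‹_›⟩ : PrimeSpectrum _) ∈ hV.fromSpec ⁻¹ᵁ Y.left.basicOpen _
        rw [hV.fromSpec_preimage_basicOpen]
        exact s.2
      rw [hrs, Scheme.basicOpen_mul, ← Scheme.preimage_basicOpen] at h1
      have h2 : (⟨q, ‹_›⟩ : PrimeSpectrum _) ∈ hV.fromSpec ⁻¹ᵁ Y.left.basicOpen r := by
        show hV.fromSpec _ ∈ Y.left.basicOpen r
        rw [← hx]
        exact h1.2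
      rw [hV.fromSpec_preimage_basicOpen] at h2
      exact h2 hrq
    refine ⟨e, ?_⟩
    rw [← hbd, he, map_mul]
    exact (mul_div_cancel_left₀ _ ((map_ne_zero_iff _ (Y.left.germToFunctionField_injective V)).2 hd0)).symm
  obtain ⟨c, hc⟩ := hc₀
  refine ⟨c, germ_injective_of_isIntegral X.left _ hξU ?_⟩
  rw [← hfc, ← hc, hΦ]

/-- A surjective invariant morphism with one orbit in each geometric fibre is a geometric quotient. -/
theorem isGeomQuot (a : AlgGrp.Action G X) (φ : X ⟶ Y) [IsIntegral X.left] [IsIntegral Y.left]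
    [IsLocallyNoetherian Y.left] [CharZero Y.left.functionField] [UniversallyOpen φ.left]
    (hY : ∀ U : Y.left.affineOpens, IsIntegrallyClosed Γ(Y.left, U))
    (hi : GIT.IsInvariant a φ)
    (hii : ∀ (Ω : Type u) [Field Ω] [IsAlgClosed Ω] (T : Over S) (_ : T.left ≅ Spec (CommRingCat.of Ω))
      (x₁ x₂ : T ⟶ X), x₁ ≫ φ = x₂ ≫ φ → ∃ g : T ⟶ G, lift g x₂ ≫ a.act = x₁)
    [Surjective φ.left] : GIT.IsGeomQuot a φ := by
  refine ⟨hi, φ.left.surjective, surjective_PsiY a φ hi hii, ?_, fun U => ⟨?_, ?_⟩⟩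
  · intro X' Y' i₁ i₂ f' hsq
    haveI : UniversallyOpen f' := MorphismProperty.of_isPullback hsq.flip inferInstance
    haveI : Surjective f' := MorphismProperty.of_isPullback hsq.flip inferInstance
    exact f'.isOpenMap.isQuotientMap f'.continuous f'.surjective
  · rw [injective_iff_map_eq_zero]
    intro c hc
    refine (basicOpen_eq_bot_iff c).1 (eq_bot_iff.2 fun y hy => ?_)
    obtain ⟨x, rfl⟩ := φ.left.surjective y
    have : x ∈ X.left.basicOpen (φ.left.app U c) := by rw [← Scheme.preimage_basicOpen]; exact hy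
    rw [hc, Scheme.basicOpen_zero] at this
    exact this.elim
  · refine Set.Subset.antisymm ?_ fun f hf => exists_app_eq a φ hY φ.left.surjective hii hf
    rintro _ ⟨t, rfl⟩
    exact H98EqInt.isInvSection_app hi U t

end Groth.Agent.GIT36.OneOrbit
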